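import Groth.Agent.W7SiteFunctor.RpushNat
import Groth.Prelude.Def_CohTop

/-!
Higher direct images commute with a colimit if cohomology does on a basis.
-/

set_option autoImplicit false
set_option backward.isDefEq.respectTransparency false
set_option backward.isDefEq.respectTransparency.types false

universe u

open CategoryTheory CategoryTheory.Limits TopologicalSpace Opposite

namespace Groth.Agent.CohTopColim

theorem preservesColimit_rpush_of_isBasis {X Y : TopCat.{u}} (f : X ⟶ Y) {ι : Type u} [SmallCategory ι]
    (F : ι ⥤ CohTop.Ab X) (p : ℕ)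
    (h : Opens.IsBasis {V : Opens Y | PreservesColimit F
      ((Sheaf.cohomologyPresheafFunctor (Opens.grothendieckTopology X) p).flip.obj (op ((Opens.map f).obj V)))}) :
    PreservesColimit F (CohTop.Rpush f p) := by
  refine W7SiteFunctor.preservesColimit_rpush (Opens.grothendieckTopology Y) (Opens.map f) F p fun V => ?_
  refine ⟨{W : Opens Y // W ≤ V ∧ PreservesColimit F
      ((Sheaf.cohomologyPresheafFunctor (Opens.grothendieckTopology X) p).flip.obj (op ((Opens.map f).obj W)))},
    Subtype.val, fun W => homOfLE W.2.1, ?_, fun W => W.2.2⟩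
  intro x hx
  obtain ⟨W, hW, hxW, hWV⟩ := Opens.isBasis_iff_nbhd.1 h hx
  exact ⟨W, homOfLE hWV, Sieve.ofArrows_mk _ (fun W : {W : Opens Y // W ≤ V ∧ _} => homOfLE W.2.1) ⟨W, hWV, hW⟩, hxW⟩

end Groth.Agent.CohTopColim
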